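import Cfsg.Agent.Lib.Helper6.LB1
import Cfsg.Agent.Lib.Helper6.TCD.HNP1sL.Lv
set_option autoImplicit false
set_option maxRecDepth 1000000
set_option Elab.async false
open Cfsg.Agent.Lib.Helper6.TC
namespace Cfsg.Agent.Lib.Helper6.TCD.HNP1sL
open Cfsg.Agent.Lib.Helper6.TCD.HNP1sa
theorem chkOrbL2 : chkOrb labL2 rnkL2 mvL2 1 1512 = true := by decide +kernel
theorem cntL2 : cntLab labL2 1 1512 = 4 := by decide +kernel
theorem fixL2_0_0 : Nat.beq (WL2_0 0) 0 = true := by decide +kernel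
theorem fixL2_0_1 : Nat.beq (WL2_0 309) 309 = true := by decide +kernel
end Cfsg.Agent.Lib.Helper6.TCD.HNP1sL
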