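import Cfsg.Agent.Lib.Helper6.LB2
import Cfsg.Agent.Lib.Helper6.TCD.HNP1sL.CL

set_option autoImplicit false
set_option maxRecDepth 100000
set_option linter.unusedSimpArgs false

namespace Cfsg.Agent.Lib.Helper6.TCD.HNP1sL
open Cfsg.Agent.Lib.Helper6.TC Cfsg.Agent.Lib.Helper6.TCD.HNP1sa

theorem px_c0 (p : ℕ) : px 0 p = P0 p := rfl
theorem px_c1 (p : ℕ) : px 1 p = P1 p := rfl
theorem px_c2 (p : ℕ) : px 2 p = P2 p := rfl
theorem px_c3 (p : ℕ) : px 3 p = P3 p := rfl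

theorem WL0_0_eq (p : ℕ) : WL0_0 p = wapp px [1] p := by
  simp only [wapp_cons, wapp_nil, px_c0, px_c1, px_c2, px_c3]
  rfl

theorem WL0_1_eq (p : ℕ) : WL0_1 p = wapp px [0] p := by
  simp only [wapp_cons, wapp_nil, px_c0, px_c1, px_c2, px_c3]
  rfl

theorem WL0_2_eq (p : ℕ) : WL0_2 p = wapp px [3] p := by
  simp only [wapp_cons, wapp_nil, px_c0, px_c1, px_c2, px_c3]
  rfl

theorem WL0_3_eq (p : ℕ) : WL0_3 p = wapp px [2] p := by
  simp only [wapp_cons, wapp_nil, px_c0, px_c1, px_c2, px_c3]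
  rfl

theorem hselL0_mem : ∀ k p, ∃ w ∈ wsL0, hselL0 k p = wapp px w p := by
  intro k p
  match k with
  | 0 => exact ⟨_, List.getElem_mem (l := wsL0) (n := 0) (by decide), WL0_0_eq p⟩
  | 1 => exact ⟨_, List.getElem_mem (l := wsL0) (n := 1) (by decide), WL0_1_eq p⟩
  | 2 => exact ⟨_, List.getElem_mem (l := wsL0) (n := 2) (by decide), WL0_2_eq p⟩
  | (k + 3) => exact ⟨_, List.getElem_mem (l := wsL0) (n := 3) (by decide), WL0_3_eq p⟩

theorem hwsL0 : ∀ w ∈ wsL0, (∀ c ∈ w, c < 4) ∧ ∀ b ∈ ([] : List (Fin 1512)), wapp px w b.val = b.val := by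
  intro w hw
  simp only [wsL0, List.mem_cons, List.mem_nil_iff, or_false] at hw
  rcases hw with rfl | rfl | rfl | rfl
  · refine ⟨by decide, ?_⟩
    intro b hb
    exact absurd hb List.not_mem_nil
  · refine ⟨by decide, ?_⟩
    intro b hb
    exact absurd hb List.not_mem_nil
  · refine ⟨by decide, ?_⟩
    intro b hb
    exact absurd hb List.not_mem_nil
  · refine ⟨by decide, ?_⟩
    intro b hb
    exact absurd hb List.not_mem_nil

theorem WL1_0_eq (p : ℕ) : WL1_0 p = wapp px [2, 0, 3, 1, 2, 0, 3, 1, 3, 3, 3] p := by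
  simp only [wapp_cons, wapp_nil, px_c0, px_c1, px_c2, px_c3]
  rfl

theorem WL1_1_eq (p : ℕ) : WL1_1 p = wapp px [3, 0, 2, 0, 2, 1, 3, 3, 0, 2, 1, 2, 1, 2, 2, 1, 3] p := by
  simp only [wapp_cons, wapp_nil, px_c0, px_c1, px_c2, px_c3]
  rfl

theorem hselL1_mem : ∀ k p, ∃ w ∈ wsL1, hselL1 k p = wapp px w p := by
  intro k p
  match k with
  | 0 => exact ⟨_, List.getElem_mem (l := wsL1) (n := 0) (by decide), WL1_0_eq p⟩
  | (k + 1) => exact ⟨_, List.getElem_mem (l := wsL1) (n := 1) (by decide), WL1_1_eq p⟩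

theorem hwsL1 : ∀ w ∈ wsL1, (∀ c ∈ w, c < 4) ∧ ∀ b ∈ ([⟨0, by decide⟩] : List (Fin 1512)), wapp px w b.val = b.val := by
  intro w hw
  simp only [wsL1, List.mem_cons, List.mem_nil_iff, or_false] at hw
  rcases hw with rfl | rfl
  · refine ⟨by decide, ?_⟩
    intro b hb
    simp only [List.mem_cons, List.mem_nil_iff, or_false] at hb
    rcases hb with rfl
    · rw [← WL1_0_eq]; exact Nat.eq_of_beq_eq_true fixL1_0_0
  · refine ⟨by decide, ?_⟩
    intro b hb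
    simp only [List.mem_cons, List.mem_nil_iff, or_false] at hb
    rcases hb with rfl
    · rw [← WL1_1_eq]; exact Nat.eq_of_beq_eq_true fixL1_1_0

theorem WL2_0_eq (p : ℕ) : WL2_0 p = wapp px [2, 2, 2, 0, 2, 1, 3, 0, 2, 1, 3, 2, 2, 2, 0, 2, 1, 3, 0, 2, 1, 3, 3, 0, 2, 0, 2, 1, 3, 3, 0, 2, 1, 2, 1, 2, 2, 1, 3, 2, 0, 3, 1, 2, 0, 3, 1, 3, 3, 3, 2, 0, 3, 1, 2, 0, 3, 1, 3, 3, 3, 3, 0, 2, 0, 2, 1, 3, 3, 0, 2, 1, 2, 1, 2, 2, 1, 3] p := by
  simp only [wapp_cons, wapp_nil, px_c0, px_c1, px_c2, px_c3]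
  rfl

theorem hselL2_mem : ∀ k p, ∃ w ∈ wsL2, hselL2 k p = wapp px w p := by
  intro k p
  match k with
  | (k + 0) => exact ⟨_, List.getElem_mem (l := wsL2) (n := 0) (by decide), WL2_0_eq p⟩

theorem hwsL2 : ∀ w ∈ wsL2, (∀ c ∈ w, c < 4) ∧ ∀ b ∈ ([⟨309, by decide⟩, ⟨0, by decide⟩] : List (Fin 1512)), wapp px w b.val = b.val := by
  intro w hw
  simp only [wsL2, List.mem_cons, List.mem_nil_iff, or_false] at hw
  rcases hw with rfl
  · refine ⟨by decide, ?_⟩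
    intro b hb
    simp only [List.mem_cons, List.mem_nil_iff, or_false] at hb
    rcases hb with rfl | rfl
    · rw [← WL2_0_eq]; exact Nat.eq_of_beq_eq_true fixL2_0_1
    · rw [← WL2_0_eq]; exact Nat.eq_of_beq_eq_true fixL2_0_0

section
variable {Gen : Type*} {rels : Set (FreeGroup Gen)} {gc : ℕ → Gen × Bool}
variable {φ : PresentedGroup rels →* Equiv.Perm (Fin 1512)}

theorem lvl0 [Finite (PresentedGroup rels)]
    (hw : ∀ w, (∀ c ∈ w, c < 4) → ∀ p : Fin 1512,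
      ((φ (PresentedGroup.mk rels (wordElt gc w)))⁻¹ p).val = wapp px w p.val) :
    1512 * Nat.card (ptFix φ ([⟨0, by decide⟩] : List (Fin 1512))) ≤
      Nat.card (ptFix φ ([] : List (Fin 1512))) :=
  level_words hw ([] : List (Fin 1512)) (b := 0) (by decide) wsL0
    (chkOrb_spec chkOrbL0) hwsL0 (fun p => hselL0_mem _ p) cntL0

theorem lvl1 [Finite (PresentedGroup rels)]
    (hw : ∀ w, (∀ c ∈ w, c < 4) → ∀ p : Fin 1512,
      ((φ (PresentedGroup.mk rels (wordElt gc w)))⁻¹ p).val = wapp px w p.val) :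
    250 * Nat.card (ptFix φ ([⟨309, by decide⟩, ⟨0, by decide⟩] : List (Fin 1512))) ≤
      Nat.card (ptFix φ ([⟨0, by decide⟩] : List (Fin 1512))) :=
  level_words hw ([⟨0, by decide⟩] : List (Fin 1512)) (b := 309) (by decide) wsL1
    (chkOrb_spec chkOrbL1) hwsL1 (fun p => hselL1_mem _ p) cntL1

theorem lvl2 [Finite (PresentedGroup rels)]
    (hw : ∀ w, (∀ c ∈ w, c < 4) → ∀ p : Fin 1512,
      ((φ (PresentedGroup.mk rels (wordElt gc w)))⁻¹ p).val = wapp px w p.val) :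
    4 * Nat.card (ptFix φ ([⟨1, by decide⟩, ⟨309, by decide⟩, ⟨0, by decide⟩] : List (Fin 1512))) ≤
      Nat.card (ptFix φ ([⟨309, by decide⟩, ⟨0, by decide⟩] : List (Fin 1512))) :=
  level_words hw ([⟨309, by decide⟩, ⟨0, by decide⟩] : List (Fin 1512)) (b := 1) (by decide) wsL2
    (chkOrb_spec chkOrbL2) hwsL2 (fun p => hselL2_mem _ p) cntL2

/-- the lower bound for the order from the chain of stabilisers -/
theorem chain_lb [Finite (PresentedGroup rels)]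
    (hw : ∀ w, (∀ c ∈ w, c < 4) → ∀ p : Fin 1512,
      ((φ (PresentedGroup.mk rels (wordElt gc w)))⁻¹ p).val = wapp px w p.val) :
    1512000 * Nat.card (ptFix φ ([⟨1, by decide⟩, ⟨309, by decide⟩, ⟨0, by decide⟩] : List (Fin 1512))) ≤ Nat.card (PresentedGroup rels) := by
  have h0 := lvl0 (φ := φ) hw
  have h1 := lvl1 (φ := φ) hw
  have h2 := lvl2 (φ := φ) hw
  have e : Nat.card (ptFix φ ([] : List (Fin 1512))) = Nat.card (PresentedGroup rels) := Subgroup.card_top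
  rw [e] at h0
  have hall := chain_step (chain_step (h0) h1) h2
  have e2 : 1512 * 250 * 4 = 1512000 := by norm_num
  rw [e2] at hall
  exact hall

end

end Cfsg.Agent.Lib.Helper6.TCD.HNP1sL
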